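import Groth.Agent.Fitting.Local
import Mathlib

/-!
Fitting ideals of torsion-free quotients (strict transforms) and of projective modules.
-/

set_option autoImplicit false

namespace Groth.Agent.Fitting

universe u v w

variable {R : Type u} [CommRing R] {M : Type v} [AddCommGroup M] [Module R M]

/-- If the Fitting ideal is generated by a non-zero-divisor, it becomes the unit ideal on any quotient in which
the kernel of that element dies. -/
theorem ideal_quotient_eq_top [Module.Finite R M] (k : ℕ) (f : R) (hf0 : f ∈ nonZeroDivisors R)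
    (hf : Fitt.ideal R M k = Ideal.span {f}) (W : Submodule R M)
    (hW : LinearMap.ker (f • (LinearMap.id : M →ₗ[R] M)) ≤ W) : Fitt.ideal R (M ⧸ W) k = ⊤ := by
  classical
  by_contra htop
  obtain ⟨P, hP, hle⟩ := Ideal.exists_le_maximal _ htop
  obtain ⟨n, x, hx⟩ := Module.Finite.exists_fin (R := R) (M := M)
  rw [ideal_eq_fit x hx] at hf
  obtain ⟨a, s, hs, ha, u, hu, hdet⟩ : ∃ (a : Matrix (Fin n) (Fin n) R) (s : Finset (Fin n)), n - k ≤ s.card ∧
      (∀ i ∈ s, a i ∈ relOf x) ∧ ∃ u, u ∉ P ∧ a.det = u * f := by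
    by_contra! hall
    have : fit x k ≤ P * Ideal.span {f} := by
      refine Ideal.span_le.2 ?_
      rintro _ ⟨a, s, hs, ha, rfl⟩
      obtain ⟨u, hu⟩ := Ideal.mem_span_singleton'.1 (hf.le (det_mem_rowIdeal a s hs ha))
      rw [SetLike.mem_coe, ← hu]
      refine Ideal.mul_mem_mul ?_ (Ideal.mem_span_singleton_self f)
      by_contra hm
      exact hall a s (by simpa using hs) ha u hm hu.symm
    obtain ⟨c, hc, hcf⟩ := Ideal.mem_mul_span_singleton.1 (this (hf.ge (Ideal.mem_span_singleton_self f)))
    have h1 : (1 - c) * f = 0 := by rw [sub_mul, one_mul, hcf, sub_self]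
    have h2 : 1 - c = 0 := (mem_nonZeroDivisors_iff.1 hf0).2 _ h1
    exact hP.ne_top ((Ideal.eq_top_iff_one _).2 (sub_eq_zero.1 h2 ▸ hc))
  let mk := LocalizedModule.mkLinearMap (Submonoid.powers u) (M ⧸ W)
  let y : Fin n → LocalizedModule (Submonoid.powers u) (M ⧸ W) := fun i => mk (W.mkQ (∑ l, a i l • x l))
  have hcard : sᶜ.card ≤ k := by rw [Finset.card_compl, Fintype.card_fin]; omega
  let g : Fin k → LocalizedModule (Submonoid.powers u) (M ⧸ W) := fun i =>
    if h : (i : ℕ) < sᶜ.card then y ((sᶜ.equivFin.symm ⟨i, h⟩).1) else 0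
  have hgen : Submodule.span (Localization.Away u) (Set.range g) = ⊤ := by
    refine eq_top_iff.2 fun q _ => ?_
    obtain ⟨⟨qm, t⟩, hq⟩ := IsLocalizedModule.surj (Submonoid.powers u) mk q
    have hu' : IsUnit (algebraMap R (Localization.Away u) t) := IsLocalization.map_units _ t
    rw [← Submodule.smul_mem_iff_of_isUnit _ hu', algebraMap_smul]
    change (t : R) • q = mk qm at hq
    rw [hq]
    obtain ⟨m, rfl⟩ := W.mkQ_surjective qm
    clear hq
    induction (hx ▸ Submodule.mem_top : m ∈ Submodule.span R (Set.range x)) using Submodule.span_induction with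
    | mem w hw =>
      obtain ⟨j, rfl⟩ := hw
      obtain ⟨c, hc, hcx⟩ := exists_free_combination x a s (k := k) (by simpa using hs) ha j
      choose d hd using fun i => Ideal.mem_span_singleton'.1 (hf.le (hc i))
      have key : u • W.mkQ (x j) = W.mkQ (∑ i ∈ sᶜ, d i • ∑ l, a i l • x l) := by
        rw [← map_smul, Submodule.mkQ_apply, Submodule.mkQ_apply, Submodule.Quotient.eq]
        refine hW ?_
        rw [LinearMap.mem_ker, LinearMap.smul_apply, LinearMap.id_apply, smul_sub, sub_eq_zero, Finset.smul_sum,
          ← mul_smul, mul_comm, ← hdet, hcx]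
        refine Finset.sum_congr rfl fun i _ => ?_
        rw [← mul_smul, mul_comm, hd i]
      rw [← Submodule.smul_mem_iff_of_isUnit _
          (IsLocalization.map_units (Localization.Away u) (⟨u, Submonoid.mem_powers u⟩ : Submonoid.powers u)),
        algebraMap_smul, ← map_smul, key, map_sum, map_sum]
      refine Submodule.sum_mem _ fun i hi => ?_
      rw [map_smul, map_smul, ← algebraMap_smul (Localization.Away u)]
      refine Submodule.smul_mem _ _ (Submodule.subset_span ⟨⟨sᶜ.equivFin ⟨i, hi⟩, (Fin.is_lt _).trans_le hcard⟩, ?_⟩)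
      simp [g, y]
    | zero => simp
    | add y z _ _ hy hz => rw [map_add, map_add]; exact Submodule.add_mem _ hy hz
    | smul r y _ hy =>
      rw [map_smul, map_smul, ← algebraMap_smul (Localization.Away u)]
      exact Submodule.smul_mem _ _ hy
  exact (not_le_iff_away P k).2 ⟨u, hu, g, hgen⟩ hle

theorem ideal_eq_bot_of_rankAtStalk [Module.Finite R M] [Module.Projective R M] {k j : ℕ}
    (hr : ∀ p : PrimeSpectrum R, Module.rankAtStalk (R := R) M p = k) (hj : j < k) : Fitt.ideal R M j = ⊥ := by
  refine eq_bot_iff.2 fun c hc => Ideal.mem_bot.2 (eq_zero_of_forall_atPrime c fun P hP => ?_)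
  haveI : Module.Flat R M := inferInstance
  haveI : Module.Finite (Localization.AtPrime P) (LocalizedModule P.primeCompl M) :=
    Module.Finite.of_isLocalizedModule P.primeCompl (LocalizedModule.mkLinearMap P.primeCompl M)
  haveI : Module.Free (Localization.AtPrime P) (LocalizedModule P.primeCompl M) := Module.free_of_flat_of_isLocalRing
  let b := Module.finBasisOfFinrankEq (Localization.AtPrime P) (LocalizedModule P.primeCompl M)
    (n := k) (hr ⟨P, hP⟩)
  rw [← Ideal.mem_bot, ← (ideal_of_basis (k := j) b).2 (by simpa using hj), ideal_localizedModule]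
  exact Ideal.mem_map_of_mem _ hc
where
  eq_zero_of_forall_atPrime (c : R) (h : ∀ (P : Ideal R) (_ : P.IsPrime), algebraMap R (Localization.AtPrime P) c = 0) : c = 0 := by
    by_contra hc
    obtain ⟨P, hP, hle⟩ := Ideal.exists_le_maximal (Ideal.span {c}).annihilator fun htop => hc (by
      simpa using (Submodule.mem_annihilator_span_singleton c (1 : R)).1 (htop.ge Submodule.mem_top))
    obtain ⟨⟨t, ht⟩, htc⟩ := (IsLocalization.map_eq_zero_iff P.primeCompl (Localization.AtPrime P) c).1 (h P hP.isPrime)
    exact ht (hle ((Submodule.mem_annihilator_span_singleton c t).2 htc))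

end Groth.Agent.Fitting
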