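import Groth.Prelude.Def_BlowUp2
import Groth.Prelude.Def_FlatCA
import Groth.Agent.Fitting.Transform
import Mathlib

/-!
Strict transforms along the affine blow-up algebra of a Fitting ideal.
-/

set_option autoImplicit false

namespace Groth.Agent.Fitting

universe u

open TensorProduct

variable {R : Type u} [CommRing R] (I : Ideal R) (a : R) (R₁ : Type u) [CommRing R₁] [Algebra R R₁]
  (e : R₁ ≃ₐ[R] ↥(BlowUp.affineAlgebra R I a))

include e in
theorem nonZeroDivisor_affineAlgebra : algebraMap R R₁ a ∈ nonZeroDivisors R₁ := by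
  refine mem_nonZeroDivisors_iff_right.2 fun y hy => ?_
  have h := congrArg (fun z : R₁ => ((e z : ↥(BlowUp.affineAlgebra R I a)) : Localization.Away a)) hy
  simp only [map_mul, AlgEquiv.commutes, map_zero, Subalgebra.coe_mul, Subalgebra.coe_algebraMap, ZeroMemClass.coe_zero] at h
  have h2 := (IsLocalization.map_units (Localization.Away a) (⟨a, Submonoid.mem_powers a⟩ : Submonoid.powers a)).mul_left_eq_zero.1 h
  exact e.injective (Subtype.ext (h2.trans (by simp)))

include e in
theorem map_eq_span (ha : a ∈ I) : I.map (algebraMap R R₁) = Ideal.span {algebraMap R R₁ a} := by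
  refine le_antisymm (Ideal.map_le_iff_le_comap.2 fun x hx => ?_)
    ((Ideal.span_singleton_le_iff_mem _).2 (Ideal.mem_map_of_mem _ ha))
  refine Ideal.mem_span_singleton'.2 ⟨e.symm ⟨IsLocalization.mk' (Localization.Away a) x ⟨a, Submonoid.mem_powers a⟩,
    Algebra.subset_adjoin ⟨x, hx, rfl⟩⟩, e.injective (Subtype.ext ?_)⟩
  rw [map_mul, AlgEquiv.apply_symm_apply, AlgEquiv.commutes, AlgEquiv.commutes]
  simp only [Subalgebra.coe_mul, Subalgebra.coe_algebraMap]
  exact IsLocalization.mk'_spec (Localization.Away a) x ⟨a, Submonoid.mem_powers a⟩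

theorem ker_smul_le_powTorsion (x : R₁) (N : Type u) [AddCommGroup N] [Module R₁ N] :
    LinearMap.ker (x • (LinearMap.id : N →ₗ[R₁] N)) ≤ FlatCA.powTorsion R₁ x N :=
  fun n hn => Submodule.mem_iSup_of_mem 1 (by simpa using hn)

theorem ideal_torsionFree_le {R' : Type u} [CommRing R'] (x : R') (hx : x ∈ nonZeroDivisors R') (N : Type u)
    [AddCommGroup N] [Module R' N] [Module.Finite R' N] (j : ℕ) (hN : Fitt.ideal R' N j = ⊥) :
    Fitt.ideal R' (N ⧸ FlatCA.powTorsion R' x N) j = ⊥ := by
  let S := Submonoid.powers x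
  let W := FlatCA.powTorsion R' x N
  let ψ : N ⧸ W →ₗ[R'] LocalizedModule S N := W.liftQ (LocalizedModule.mkLinearMap S N) (iSup_le fun n m hm => by
    rw [Submodule.mem_torsionBy_iff] at hm
    exact LinearMap.mem_ker.2 ((IsLocalizedModule.eq_zero_iff S (LocalizedModule.mkLinearMap S N)).2
      ⟨⟨x ^ n, n, rfl⟩, hm⟩))
  let θ : LocalizedModule S (N ⧸ W) →ₗ[R'] LocalizedModule S N := IsLocalizedModule.lift S (LocalizedModule.mkLinearMap S (N ⧸ W)) ψ fun t =>
    IsLocalizedModule.map_units (LocalizedModule.mkLinearMap S N) t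
  let θ' : LocalizedModule S (N ⧸ W) →ₗ[Localization S] LocalizedModule S N :=
    θ.extendScalarsOfIsLocalization S (Localization S)
  have hsurj : Function.Surjective θ' := fun q => by
    obtain ⟨⟨n, t⟩, hq⟩ := IsLocalizedModule.surj S (LocalizedModule.mkLinearMap S N) q
    obtain ⟨u, hu⟩ := (IsLocalization.map_units (Localization S) t).exists_left_inv
    refine ⟨u • LocalizedModule.mkLinearMap S (N ⧸ W) (W.mkQ n), ?_⟩
    rw [map_smul]
    have hθ : θ' (LocalizedModule.mkLinearMap S (N ⧸ W) (W.mkQ n)) = LocalizedModule.mkLinearMap S N n := by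
      show θ (LocalizedModule.mkLinearMap S (N ⧸ W) (W.mkQ n)) = _
      exact IsLocalizedModule.lift_apply S _ ψ _ (W.mkQ n)
    change (t : R') • q = _ at hq
    rw [hθ, ← hq, ← algebraMap_smul (Localization S) (t : R') q, ← mul_smul, hu, one_smul]
  haveI : Module.Finite (Localization S) (LocalizedModule S (N ⧸ W)) :=
    Module.Finite.of_isLocalizedModule S (LocalizedModule.mkLinearMap S (N ⧸ W))
  refine eq_bot_iff.2 fun c hc => Ideal.mem_bot.2 ?_
  have h := ideal_le_of_surjective θ' hsurj j
  rw [ideal_localizedModule, ideal_localizedModule, hN, Ideal.map_bot, le_bot_iff] at h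
  have h1 : algebraMap R' (Localization S) c = 0 := by rw [← Ideal.mem_bot, ← h]; exact Ideal.mem_map_of_mem _ hc
  obtain ⟨⟨t, n, rfl⟩, ht⟩ := (IsLocalization.map_eq_zero_iff S (Localization S) c).1 h1
  exact (mem_nonZeroDivisors_iff.1 (pow_mem hx n)).1 c ht

end Groth.Agent.Fitting
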