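import Groth.Agent.Fitting.Core
import Mathlib

/-!
Minors, finite generation, annihilators, localisation and local generation for Fitting ideals.
-/

set_option autoImplicit false

namespace Groth.Agent.Fitting

universe u v w

open TensorProduct

variable {R : Type u} [CommRing R] {M : Type v} [AddCommGroup M] [Module R M] {σ : Type w} [Fintype σ] [DecidableEq σ]

theorem det_smul_eq_sum (x : σ → M) (a : Matrix σ σ R) (j : σ) :
    a.det • x j = ∑ i, a.adjugate j i • ∑ l, a i l • x l := by
  simp only [Finset.smul_sum, smul_smul]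
  rw [Finset.sum_comm]
  simp only [← Finset.sum_smul]
  have : ∀ l, ∑ i, a.adjugate j i * a i l = if j = l then a.det else 0 := fun l => by
    have := congrFun (congrFun (Matrix.adjugate_mul a) j) l
    simpa [Matrix.mul_apply, Matrix.one_apply] using this
  simp [this, ite_smul]

/-- `a.det • x j` is a combination of the values of the free rows, with coefficients in the Fitting ideal. -/
theorem exists_free_combination (x : σ → M) (a : Matrix σ σ R) (s : Finset σ) {k : ℕ}
    (hs : Fintype.card σ - k ≤ s.card) (ha : ∀ i ∈ s, a i ∈ relOf x) (j : σ) :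
    ∃ c : σ → R, (∀ i, c i ∈ fit x k) ∧ a.det • x j = ∑ i ∈ sᶜ, c i • ∑ l, a i l • x l := by
  refine ⟨fun i => if i ∈ s then 0 else a.adjugate j i, fun i => ?_, ?_⟩
  · by_cases hi : i ∈ s
    · simp [hi]
    · simp only [if_neg hi]
      rw [Matrix.adjugate_apply]
      exact det_mem_rowIdeal _ s hs fun l hl => by
        rw [Matrix.updateRow_ne (fun h => hi (h ▸ hl) : l ≠ i)]; exact ha l hl
  · rw [det_smul_eq_sum, ← Finset.sum_compl_add_sum s,
      Finset.sum_eq_zero (s := s) fun i hi => by rw [show ∑ l, a i l • x l = 0 from ha i hi, smul_zero], add_zero]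
    exact Finset.sum_congr rfl fun i hi => by simp [Finset.mem_compl.1 hi]

theorem le_annihilator [Module.Finite R M] : Fitt.ideal R M 0 ≤ Module.annihilator R M := by
  classical
  obtain ⟨n, x, hx⟩ := Module.Finite.exists_fin (R := R) (M := M)
  rw [ideal_eq_fit x hx]
  refine Ideal.span_le.2 ?_
  rintro _ ⟨a, s, hs, ha, rfl⟩
  have huniv : s = Finset.univ := Finset.eq_univ_of_card s (le_antisymm (Finset.card_le_univ s) (by simpa using hs))
  rw [SetLike.mem_coe, Module.mem_annihilator]
  intro m
  induction (hx ▸ Submodule.mem_top : m ∈ Submodule.span R (Set.range x)) using Submodule.span_induction with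
  | mem y hy =>
    obtain ⟨j, rfl⟩ := hy
    obtain ⟨c, -, hc⟩ := exists_free_combination x a s hs ha j
    rw [hc, huniv]; simp
  | zero => simp
  | add y z _ _ hy hz => rw [smul_add, hy, hz, add_zero]
  | smul r y _ hy => rw [smul_comm, hy, smul_zero]

theorem fg_ideal [Module.FinitePresentation R M] (k : ℕ) : (Fitt.ideal R M k).FG := by
  classical
  obtain ⟨n, x, hx⟩ := Module.Finite.exists_fin (R := R) (M := M)
  obtain ⟨G, hG⟩ := Module.FinitePresentation.fg_ker (Fintype.linearCombination R x)
    (by rw [← LinearMap.range_eq_top, Fintype.range_linearCombination, hx])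
  have hrel : relOf (R := R) x = (Submodule.span R (G : Set (Fin n → R)) : Set (Fin n → R)) := by
    rw [hG]; ext z; simp [relOf, Fintype.linearCombination_apply]
  let U : Set (Fin n → R) := (G : Set (Fin n → R)) ∪ Set.range fun j : Fin n => Pi.single j (1 : R)
  have hU : U.Finite := G.finite_toSet.union (Set.finite_range _)
  let D : Set R := Matrix.det '' {a : Matrix (Fin n) (Fin n) R | (∀ i, a i ∈ U) ∧ a.det ∈ fit x k}
  have hD : D.Finite := ((Set.Finite.pi' fun _ : Fin n => hU).subset fun a ha i => ha.1 i).image _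
  have : Fitt.ideal R M k = Ideal.span D := by
    rw [ideal_eq_fit x hx]
    refine le_antisymm ?_ (Ideal.span_le.2 fun d ⟨a, ha, hd⟩ => hd ▸ ha.2)
    rw [fit, hrel, rowIdeal_span]
    refine Ideal.span_le.2 ?_
    rintro _ ⟨a, s, hs, ha, rfl⟩
    refine det_mem_of_span (fun i => if i ∈ s then (G : Set (Fin n → R)) else Set.range fun j => Pi.single j (1 : R)) _
      (fun b hb => ?_) a fun i => ?_
    · refine Ideal.subset_span ⟨b, ⟨fun i => ?_, ?_⟩, rfl⟩
      · by_cases hi : i ∈ s
        · exact Or.inl (by simpa [hi] using hb i)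
        · exact Or.inr (by simpa [hi] using hb i)
      · refine det_mem_rowIdeal b s hs fun i hi => ?_
        rw [hrel]
        exact Submodule.subset_span (by simpa [hi] using hb i)
    · by_cases hi : i ∈ s
      · simpa [hi] using Submodule.subset_span (R := R) (ha i hi)
      · rw [if_neg hi, pi_eq_sum_univ' (a i)]
        exact Submodule.sum_mem _ fun j _ => Submodule.smul_mem _ _ (Submodule.subset_span ⟨j, rfl⟩)
  rw [this]
  exact Submodule.fg_span hD

/-- The Fitting ideal is generated by minors. -/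
theorem fit_eq_minors {n : ℕ} (x : Fin n → M) (k : ℕ) :
    fit x k = Ideal.span {d : R | ∃ (z : Fin (n - k) → (Fin n → R)) (e : Fin (n - k) → Fin n),
      (∀ j, ∑ i, z j i • x i = 0) ∧ d = (Matrix.of fun a b => z b (e a)).det} := by
  classical
  refine le_antisymm (Ideal.span_le.2 ?_) (Ideal.span_le.2 ?_)
  · rintro _ ⟨a, s, hs, ha, rfl⟩
    suffices H : ∀ (m : ℕ) (e : Fin m → Fin n) (b : Matrix (Fin m) (Fin m) R) (t : Finset (Fin m)), n - k = t.card →
        (∀ i ∈ t, ∃ z ∈ relOf (R := R) x, z ∘ e = b i) → b.det ∈ Ideal.span {d : R | ∃ (z : Fin (n - k) → (Fin n → R))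
          (e : Fin (n - k) → Fin n), (∀ j, ∑ i, z j i • x i = 0) ∧ d = (Matrix.of fun a b => z b (e a)).det} by
      rw [Fintype.card_fin] at hs
      obtain ⟨t, ht, htc⟩ := Finset.exists_subset_card_eq hs
      exact H n id a t htc.symm fun i hi => ⟨a i, ha i (ht hi), rfl⟩
    intro m
    induction m with
    | zero =>
      intro e b t ht hb
      have hk : n - k = 0 := by rw [ht, Finset.eq_empty_of_isEmpty t, Finset.card_empty]
      haveI : IsEmpty (Fin (n - k)) := by rw [hk]; infer_instance
      exact Ideal.subset_span ⟨fun i => isEmptyElim i, fun i => isEmptyElim i, fun j => isEmptyElim j, by simp⟩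
    | succ m ih =>
      intro e b t ht hb
      by_cases hu : t = Finset.univ
      · have hm : n - k = m + 1 := by rw [ht, hu, Finset.card_univ, Fintype.card_fin]
        choose z hz hzb using fun i => hb i (hu ▸ Finset.mem_univ i)
        refine Ideal.subset_span ⟨fun j => z (Fin.cast hm j), fun j => e (Fin.cast hm j), fun j => hz _, ?_⟩
        rw [← Matrix.det_submatrix_equiv_self (finCongr hm) b, ← Matrix.det_transpose]
        congr 1
        ext i j
        simp [← hzb]
      · obtain ⟨i, -, hi⟩ := Finset.exists_of_ssubset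
          (Finset.ssubset_univ_iff.2 hu)
        rw [Matrix.det_succ_row b i]
        refine Ideal.sum_mem _ fun j _ => Ideal.mul_mem_left _ _ ?_
        refine ih (e ∘ j.succAbove) _ (Finset.univ.filter fun l => i.succAbove l ∈ t) ?_ fun l hl => ?_
        · rw [ht]
          refine (Finset.card_bij (fun l _ => i.succAbove l) (fun l hl => (Finset.mem_filter.1 hl).2)
            (fun l _ l' _ h => Fin.succAbove_right_injective h) fun l hl => ?_).symm
          obtain ⟨l', rfl⟩ := Fin.exists_succAbove_eq (fun h => hi (h ▸ hl) : l ≠ i)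
          exact ⟨l', Finset.mem_filter.2 ⟨Finset.mem_univ _, hl⟩, rfl⟩
        · obtain ⟨z, hz, hzb⟩ := hb _ (Finset.mem_filter.1 hl).2
          exact ⟨z, hz, by funext q; simp [Matrix.submatrix, ← hzb]⟩
  · rintro _ ⟨z, e, hz, rfl⟩
    simp only [SetLike.mem_coe]
    by_cases he : Function.Injective e
    swap
    · obtain ⟨p, q, hpq, hne⟩ : ∃ p q, e p = e q ∧ p ≠ q := by
        simpa [Function.Injective] using he
      rw [Matrix.det_zero_of_row_eq hne (by funext l; simp [hpq])]
      exact zero_mem _
    let p : Fin n → Prop := fun i => i ∈ Set.range e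
    let er : Fin (n - k) ≃ {i // p i} := Equiv.ofInjective e he
    let T : Matrix (Fin n) (Fin n) R := Matrix.of fun i =>
      if h : p i then z (er.symm ⟨i, h⟩) else Pi.single i 1
    have hT : T.det = (Matrix.of fun a b => z b (e a)).det := by
      rw [Matrix.twoBlockTriangular_det T p (fun i hi j hj => ?_)]
      · have h1 : T.toSquareBlockProp (fun i => ¬ p i) = 1 := by
          ext ⟨i, hi⟩ ⟨j, hj⟩
          simp [Matrix.toSquareBlockProp, T, hi, Matrix.one_apply, Pi.single_apply, eq_comm]
        rw [h1, Matrix.det_one, mul_one]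
        have h4 : (Matrix.of fun a b => z b (e a)).det = ((T.toSquareBlockProp p).submatrix er er).det := by
          rw [← Matrix.det_transpose]
          congr 1
          ext i j
          simp [Matrix.toSquareBlockProp, T, er, p]
        rw [h4]
        convert (Matrix.det_submatrix_equiv_self er (T.toSquareBlockProp p)).symm using 2
      · simp [T, hi, Pi.single_apply, show j ≠ i from fun h => hi (h ▸ hj)]
    rw [← hT]
    refine det_mem_rowIdeal T (Finset.univ.filter p) ?_ fun i hi => ?_
    · rw [← Fintype.card_subtype, ← Fintype.card_congr er, Fintype.card_fin, Fintype.card_fin]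
    · show ∑ l, T i l • x l = 0
      simp only [T, Matrix.of_apply, dif_pos (Finset.mem_filter.1 hi).2]
      exact hz _

theorem ideal_eq_minors {n : ℕ} (x : Fin n → M) (hx : Submodule.span R (Set.range x) = ⊤) (k : ℕ) :
    Fitt.ideal R M k = Ideal.span {d : R | ∃ (z : Fin (n - k) → (Fin n → R)) (e : Fin (n - k) → Fin n),
      (∀ j, ∑ i, z j i • x i = 0) ∧ d = (Matrix.of fun a b => z b (e a)).det} :=
  (ideal_eq_fit x hx k).trans (fit_eq_minors x k)

/-- A tuple of `k` generators gives the unit ideal. -/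
theorem ideal_eq_top_of_span {k : ℕ} (x : Fin k → M) (hx : Submodule.span R (Set.range x) = ⊤) :
    Fitt.ideal R M k = ⊤ := (ideal_eq_fit x hx k).trans (fit_eq_top x (by simp))

/-- Fitting ideals of a free module. -/
theorem ideal_of_basis {k : ℕ} (b : Module.Basis σ R M) :
    (Fintype.card σ ≤ k → Fitt.ideal R M k = ⊤) ∧ (k < Fintype.card σ → Fitt.ideal R M k = ⊥) := by
  refine ⟨fun h => (ideal_eq_fit b b.span_eq k).trans (fit_eq_top _ h), fun h => ?_⟩
  rw [ideal_eq_fit b b.span_eq, eq_bot_iff]
  refine Ideal.span_le.2 ?_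
  rintro _ ⟨a, s, hs, ha, rfl⟩
  obtain ⟨i, hi⟩ := Finset.card_pos.1 (show 0 < s.card by omega)
  have : a i = 0 := funext fun j => Fintype.linearIndependent_iff.1 b.linearIndependent _ (ha i hi) j
  simp [Matrix.det_eq_zero_of_row_eq_zero i (fun j => congrFun this j)]

section Localization

variable [Module.Finite R M] (S : Submonoid R)

theorem ideal_localizedModule (k : ℕ) :
    Fitt.ideal (Localization S) (LocalizedModule S M) k = (Fitt.ideal R M k).map (algebraMap R (Localization S)) := by
  have h : IsBaseChange (Localization S) (LocalizedModule.mkLinearMap S M) :=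
    IsLocalizedModule.isBaseChange S (Localization S) _
  rw [← ideal_baseChange, ← ideal_congr h.equiv k]

variable {S}

/-- If some element of `S` lies in the Fitting ideal via a determinant, the localisation is generated by `k` elements. -/
theorem exists_gens_localized {n : ℕ} (x : Fin n → M) (hx : Submodule.span R (Set.range x) = ⊤)
    (a : Matrix (Fin n) (Fin n) R) (s : Finset (Fin n)) {k : ℕ} (hs : n - k ≤ s.card)
    (ha : ∀ i ∈ s, a i ∈ relOf x) (hf : a.det ∈ S) :
    ∃ g : Fin k → LocalizedModule S M, Submodule.span (Localization S) (Set.range g) = ⊤ := by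
  classical
  let y : Fin n → LocalizedModule S M := fun i => LocalizedModule.mkLinearMap S M (∑ l, a i l • x l)
  have hcard : sᶜ.card ≤ k := by rw [Finset.card_compl, Fintype.card_fin]; omega
  let g : Fin k → LocalizedModule S M := fun i =>
    if h : (i : ℕ) < sᶜ.card then y ((sᶜ.equivFin.symm ⟨i, h⟩).1) else 0
  refine ⟨g, eq_top_iff.2 fun q _ => ?_⟩
  obtain ⟨⟨m, t⟩, hq⟩ := IsLocalizedModule.surj S (LocalizedModule.mkLinearMap S M) q
  have hu : IsUnit (algebraMap R (Localization S) t) := IsLocalization.map_units _ t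
  rw [← Submodule.smul_mem_iff_of_isUnit _ hu, algebraMap_smul]
  change (t : R) • q = _ at hq
  rw [hq]
  clear hq
  induction (hx ▸ Submodule.mem_top : m ∈ Submodule.span R (Set.range x)) using Submodule.span_induction with
  | mem w hw =>
    obtain ⟨j, rfl⟩ := hw
    obtain ⟨c, -, hc⟩ := exists_free_combination x a s (k := k) (by simpa using hs) ha j
    rw [← Submodule.smul_mem_iff_of_isUnit _ (IsLocalization.map_units (Localization S) ⟨_, hf⟩), algebraMap_smul,
      ← map_smul, hc, map_sum]
    refine Submodule.sum_mem _ fun i hi => ?_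
    rw [map_smul, ← algebraMap_smul (Localization S)]
    refine Submodule.smul_mem _ _ (Submodule.subset_span ⟨⟨sᶜ.equivFin ⟨i, hi⟩, (Fin.is_lt _).trans_le hcard⟩, ?_⟩)
    simp [g, y]
  | zero => simp
  | add y z _ _ hy hz => rw [map_add]; exact Submodule.add_mem _ hy hz
  | smul r y _ hy =>
    rw [map_smul, ← algebraMap_smul (Localization S)]
    exact Submodule.smul_mem _ _ hy

theorem exists_mem_of_gens_localized {k : ℕ} (g : Fin k → LocalizedModule S M)
    (hg : Submodule.span (Localization S) (Set.range g) = ⊤) : ∃ f ∈ S, f ∈ Fitt.ideal R M k := by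
  have h := (ideal_localizedModule (M := M) S k).symm.trans (ideal_eq_top_of_span g hg)
  rw [Ideal.eq_top_iff_one, IsLocalization.mem_map_algebraMap_iff S] at h
  obtain ⟨⟨⟨i, hi⟩, t⟩, h⟩ := h
  rw [one_mul] at h
  obtain ⟨c, hc⟩ := (IsLocalization.eq_iff_exists S (Localization S)).1 h
  exact ⟨c * t, S.mul_mem c.2 t.2, hc ▸ Ideal.mul_mem_left _ _ hi⟩

end Localization

section Prime

variable [Module.Finite R M] (p : Ideal R) [p.IsPrime] (k : ℕ)

theorem exists_det_notMem (h : ¬ Fitt.ideal R M k ≤ p) {n : ℕ} (x : Fin n → M)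
    (hx : Submodule.span R (Set.range x) = ⊤) :
    ∃ (a : Matrix (Fin n) (Fin n) R) (s : Finset (Fin n)), n - k ≤ s.card ∧ (∀ i ∈ s, a i ∈ relOf x) ∧ a.det ∉ p := by
  classical
  by_contra! hall
  refine h ?_
  rw [ideal_eq_fit x hx]
  refine Ideal.span_le.2 ?_
  rintro _ ⟨a, s, hs, ha, rfl⟩
  exact hall a s (by simpa using hs) ha

theorem not_le_iff_localizedModule : ¬ Fitt.ideal R M k ≤ p ↔
    ∃ g : Fin k → LocalizedModule p.primeCompl M, Submodule.span (Localization.AtPrime p) (Set.range g) = ⊤ := by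
  refine ⟨fun h => ?_, fun ⟨g, hg⟩ hle => ?_⟩
  · obtain ⟨n, x, hx⟩ := Module.Finite.exists_fin (R := R) (M := M)
    obtain ⟨a, s, hs, ha, hd⟩ := exists_det_notMem p k h x hx
    exact exists_gens_localized x hx a s hs ha (show a.det ∈ p.primeCompl from hd)
  · obtain ⟨f, hf, hfi⟩ := exists_mem_of_gens_localized g hg
    exact hf (hle hfi)

theorem not_le_iff_away : ¬ Fitt.ideal R M k ≤ p ↔ ∃ f : R, f ∉ p ∧ ∃ g : Fin k → LocalizedModule (Submonoid.powers f) M,
    Submodule.span (Localization.Away f) (Set.range g) = ⊤ := by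
  refine ⟨fun h => ?_, fun ⟨f, hf, g, hg⟩ hle => ?_⟩
  · obtain ⟨n, x, hx⟩ := Module.Finite.exists_fin (R := R) (M := M)
    obtain ⟨a, s, hs, ha, hd⟩ := exists_det_notMem p k h x hx
    exact ⟨a.det, hd, exists_gens_localized x hx a s hs ha (Submonoid.mem_powers _)⟩
  · obtain ⟨_, ⟨n, rfl⟩, hfi⟩ := exists_mem_of_gens_localized g hg
    exact hf (Ideal.IsPrime.mem_of_pow_mem ‹p.IsPrime› n (hle hfi))

theorem not_le_iff_finrank : ¬ Fitt.ideal R M k ≤ p ↔
    Module.finrank p.ResidueField (p.ResidueField ⊗[R] M) ≤ k := by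
  classical
  let V := p.ResidueField ⊗[R] M
  have h := ideal_baseChange (R := R) (M := M) p.ResidueField k
  let b := Module.finBasis p.ResidueField V
  obtain ⟨h1, h2⟩ := ideal_of_basis (k := k) b
  rw [Fintype.card_fin] at h1 h2
  refine ⟨fun hn => ?_, fun hle hn => ?_⟩
  · by_contra hlt
    rw [h2 (not_le.1 hlt), eq_comm, Ideal.map_eq_bot_iff_le_ker, Ideal.ker_algebraMap_residueField] at h
    exact hn h
  · rw [h1 hle, eq_comm] at h
    have h3 : (Fitt.ideal R M k).map (algebraMap R p.ResidueField) ≤ ⊥ := by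
      rw [le_bot_iff, Ideal.map_eq_bot_iff_le_ker, Ideal.ker_algebraMap_residueField]; exact hn
    rw [h] at h3
    exact top_ne_bot (le_bot_iff.1 h3)

end Prime

/-- If a Fitting ideal over a local ring is principal, the quotient by the kernel of the generator needs `k` generators. -/
theorem exists_gens_quotient_ker [IsLocalRing R] [Module.Finite R M] (k : ℕ) (f : R)
    (hf : Fitt.ideal R M k = Ideal.span {f}) :
    ∃ g : Fin k → M ⧸ LinearMap.ker (f • (LinearMap.id : M →ₗ[R] M)), Submodule.span R (Set.range g) = ⊤ := by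
  classical
  let K := LinearMap.ker (f • (LinearMap.id : M →ₗ[R] M))
  by_cases hf0 : f = 0
  · refine ⟨fun _ => 0, eq_top_iff.2 fun q _ => ?_⟩
    obtain ⟨m, rfl⟩ := K.mkQ_surjective q
    have : m ∈ K := by simp [K, hf0]
    rw [Submodule.mkQ_apply, (Submodule.Quotient.mk_eq_zero K).2 this]
    exact zero_mem _
  obtain ⟨n, x, hx⟩ := Module.Finite.exists_fin (R := R) (M := M)
  rw [ideal_eq_fit x hx] at hf
  obtain ⟨a, s, hs, ha, u, hu, hdet⟩ : ∃ (a : Matrix (Fin n) (Fin n) R) (s : Finset (Fin n)), n - k ≤ s.card ∧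
      (∀ i ∈ s, a i ∈ relOf x) ∧ ∃ u, IsUnit u ∧ a.det = u * f := by
    by_contra! hall
    have : fit x k ≤ IsLocalRing.maximalIdeal R * Ideal.span {f} := by
      refine Ideal.span_le.2 ?_
      rintro _ ⟨a, s, hs, ha, rfl⟩
      obtain ⟨u, hu⟩ := Ideal.mem_span_singleton'.1 (hf.le (det_mem_rowIdeal a s hs ha))
      rw [SetLike.mem_coe, ← hu]
      refine Ideal.mul_mem_mul ?_ (Ideal.mem_span_singleton_self f)
      by_contra hm
      exact hall a s (by simpa using hs) ha u (IsLocalRing.notMem_maximalIdeal.1 hm) hu.symm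
    obtain ⟨c, hc, hcf⟩ := Ideal.mem_mul_span_singleton.1 (this (hf.ge (Ideal.mem_span_singleton_self f)))
    have h1 : IsUnit (1 - c) := (IsLocalRing.isUnit_or_isUnit_one_sub_self c).resolve_left hc
    exact hf0 ((h1.mul_right_eq_zero).1 (by rw [sub_mul, one_mul, hcf, sub_self]))
  let y : Fin n → M ⧸ K := fun i => K.mkQ (∑ l, a i l • x l)
  have hcard : sᶜ.card ≤ k := by rw [Finset.card_compl, Fintype.card_fin]; omega
  let g : Fin k → M ⧸ K := fun i =>
    if h : (i : ℕ) < sᶜ.card then y ((sᶜ.equivFin.symm ⟨i, h⟩).1) else 0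
  refine ⟨g, eq_top_iff.2 fun q _ => ?_⟩
  obtain ⟨m, rfl⟩ := K.mkQ_surjective q
  rename_i hq'
  clear hq'
  induction (hx ▸ Submodule.mem_top : m ∈ Submodule.span R (Set.range x)) using Submodule.span_induction with
  | mem w hw =>
    obtain ⟨j, rfl⟩ := hw
    obtain ⟨c, hc, hcx⟩ := exists_free_combination x a s (k := k) (by simpa using hs) ha j
    choose d hd using fun i => Ideal.mem_span_singleton'.1 (hf.le (hc i))
    obtain ⟨v, hv⟩ := hu.exists_left_inv
    have key : K.mkQ (x j) = K.mkQ (∑ i ∈ sᶜ, (v * d i) • ∑ l, a i l • x l) := by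
      rw [Submodule.mkQ_apply, Submodule.mkQ_apply, Submodule.Quotient.eq, LinearMap.mem_ker, LinearMap.smul_apply,
        LinearMap.id_apply, smul_sub, sub_eq_zero, Finset.smul_sum]
      calc f • x j = v • (a.det • x j) := by rw [hdet, ← mul_smul, ← mul_assoc, hv, one_mul]
        _ = _ := by
          rw [hcx, Finset.smul_sum]
          refine Finset.sum_congr rfl fun i _ => ?_
          rw [← mul_smul, ← mul_smul, ← hd i]
          congr 1; ring
    rw [key, map_sum]
    refine Submodule.sum_mem _ fun i hi => ?_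
    rw [map_smul]
    refine Submodule.smul_mem _ _ (Submodule.subset_span ⟨⟨sᶜ.equivFin ⟨i, hi⟩, (Fin.is_lt _).trans_le hcard⟩, ?_⟩)
    simp [g, y]
  | zero => simp
  | add y z _ _ hy hz => rw [map_add]; exact Submodule.add_mem _ hy hz
  | smul r y _ hy => rw [map_smul]; exact Submodule.smul_mem _ _ hy

theorem nontrivial_away (f : R) (p : Ideal R) [p.IsPrime] (hf : f ∉ p) : Nontrivial (Localization.Away f) := by
  refine ⟨⟨algebraMap R _ 1, 0, fun h => ?_⟩⟩
  obtain ⟨⟨t, n, rfl⟩, ht⟩ := (IsLocalization.map_eq_zero_iff (Submonoid.powers f) (Localization.Away f) 1).1 h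
  rw [mul_one] at ht
  exact hf (Ideal.IsPrime.mem_of_pow_mem ‹p.IsPrime› n (show f ^ n ∈ p from (show f ^ n = 0 from ht) ▸ zero_mem p))

end Groth.Agent.Fitting
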