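import Mathlib

/-!
Ideals generated by determinants of square matrices with some rows in a given set, and the expansion lemmas
(rows in a span; block supported rows) behind the theory of Fitting ideals.
-/

set_option autoImplicit false

namespace Groth.Agent.Fitting

universe u w w'

variable {R : Type u} [CommRing R] {σ : Type w} [Fintype σ] [DecidableEq σ] {τ : Type w'} [Fintype τ] [DecidableEq τ]

/-- If the determinant lies in `I` for all choices of the rows in `P i`, then also for all choices in their spans. -/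
theorem det_mem_of_span (P : σ → Set (σ → R)) (I : Ideal R)
    (h : ∀ a : Matrix σ σ R, (∀ i, a i ∈ P i) → a.det ∈ I) (a : Matrix σ σ R)
    (ha : ∀ i, a i ∈ Submodule.span R (P i)) : a.det ∈ I := by
  suffices H : ∀ (t : Finset σ) (a : Matrix σ σ R), (∀ i ∈ t, a i ∈ Submodule.span R (P i)) →
      (∀ i ∉ t, a i ∈ P i) → a.det ∈ I from
    H Finset.univ a (fun i _ => ha i) (fun i hi => absurd (Finset.mem_univ i) hi)
  intro t
  induction t using Finset.induction with
  | empty => exact fun a _ h2 => h a fun i => h2 i (Finset.notMem_empty i)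
  | insert i t hi ih =>
    intro a h1 h2
    suffices H : ∀ v ∈ Submodule.span R (P i), (a.updateRow i v).det ∈ I by
      simpa only [Matrix.updateRow_eq_self] using H (a i) (h1 i (Finset.mem_insert_self i t))
    intro v hv
    induction hv using Submodule.span_induction with
    | mem v hv =>
      refine ih _ (fun j hj => ?_) (fun j hj => ?_)
      · rw [Matrix.updateRow_ne (fun h => hi (h ▸ hj) : j ≠ i)]
        exact h1 j (Finset.mem_insert_of_mem hj)
      · rcases eq_or_ne j i with rfl | hne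
        · rw [Matrix.updateRow_self]; exact hv
        · rw [Matrix.updateRow_ne hne]
          exact h2 j fun h => hj ((Finset.mem_insert.1 h).resolve_left hne)
    | zero =>
      have : (a.updateRow i 0).det = 0 := Matrix.det_eq_zero_of_row_eq_zero i fun j => by simp
      rw [this]; exact zero_mem I
    | add v w _ _ hv hw => rw [Matrix.det_updateRow_add]; exact I.add_mem hv hw
    | smul r v _ hv => rw [Matrix.det_updateRow_smul]; exact I.mul_mem_left r hv

/-- The ideal of determinants with at least `card σ - k` rows in `S`. -/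
def rowIdeal (S : Set (σ → R)) (k : ℕ) : Ideal R :=
  Ideal.span {d | ∃ (a : Matrix σ σ R) (s : Finset σ), Fintype.card σ - k ≤ s.card ∧ (∀ i ∈ s, a i ∈ S) ∧ d = a.det}

theorem det_mem_rowIdeal {S : Set (σ → R)} {k : ℕ} (a : Matrix σ σ R) (s : Finset σ)
    (hs : Fintype.card σ - k ≤ s.card) (ha : ∀ i ∈ s, a i ∈ S) : a.det ∈ rowIdeal S k :=
  Ideal.subset_span ⟨a, s, hs, ha, rfl⟩

theorem rowIdeal_mono_k (S : Set (σ → R)) {k l : ℕ} (h : k ≤ l) : rowIdeal S k ≤ rowIdeal S l := by
  refine Ideal.span_le.2 ?_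
  rintro _ ⟨a, s, hs, ha, rfl⟩
  exact det_mem_rowIdeal a s ((Nat.sub_le_sub_left h _).trans hs) ha

theorem rowIdeal_eq_top (S : Set (σ → R)) {k : ℕ} (h : Fintype.card σ ≤ k) : rowIdeal S k = ⊤ :=
  (Ideal.eq_top_iff_one _).2 (by simpa using det_mem_rowIdeal (S := S) (k := k) 1 ∅ (by simp [h]) (by simp))

/-- Rows may be replaced by rows in the span. -/
theorem rowIdeal_le_of_subset_span {S T : Set (σ → R)} (h : T ⊆ Submodule.span R S) (k : ℕ) :
    rowIdeal T k ≤ rowIdeal S k := by
  refine Ideal.span_le.2 ?_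
  rintro _ ⟨a, s, hs, ha, rfl⟩
  refine det_mem_of_span (fun i => if i ∈ s then S else Set.univ) _ (fun b hb => ?_) a fun i => ?_
  · exact det_mem_rowIdeal b s hs fun i hi => by simpa [hi] using hb i
  · by_cases hi : i ∈ s
    · simpa [hi] using h (ha i hi)
    · simp [hi]

theorem rowIdeal_mono {S T : Set (σ → R)} (h : S ⊆ T) (k : ℕ) : rowIdeal S k ≤ rowIdeal T k :=
  rowIdeal_le_of_subset_span (h.trans Submodule.subset_span) k

theorem rowIdeal_span (S : Set (σ → R)) (k : ℕ) :
    rowIdeal (Submodule.span R S : Set (σ → R)) k = rowIdeal S k :=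
  le_antisymm (rowIdeal_le_of_subset_span le_rfl k) (rowIdeal_mono Submodule.subset_span k)

theorem rowIdeal_reindex_le (e : σ ≃ τ) {S : Set (σ → R)} {T : Set (τ → R)}
    (h : ∀ z ∈ S, z ∘ e.symm ∈ T) (k : ℕ) : rowIdeal S k ≤ rowIdeal T k := by
  refine Ideal.span_le.2 ?_
  rintro _ ⟨a, s, hs, ha, rfl⟩
  rw [← Matrix.det_submatrix_equiv_self e.symm a]
  refine det_mem_rowIdeal _ (s.map e.toEmbedding) ?_ fun i hi => ?_
  · rwa [Finset.card_map, ← Fintype.card_congr e]
  · obtain ⟨j, hj, rfl⟩ := Finset.mem_map.1 hi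
    convert h _ (ha j hj) using 1
    funext l
    simp [Matrix.submatrix]

theorem rowIdeal_map {R' : Type*} [CommRing R'] (f : R →+* R') (S : Set (σ → R)) (k : ℕ) :
    rowIdeal ((fun z => f ∘ z) '' S) k = (rowIdeal S k).map f := by
  classical
  refine le_antisymm (Ideal.span_le.2 ?_) ?_
  · rintro _ ⟨a, s, hs, ha, rfl⟩
    refine det_mem_of_span (fun i => if i ∈ s then (fun z => f ∘ z) '' S
      else Set.range fun j : σ => f ∘ Pi.single j (1 : R)) _ (fun b hb => ?_) a fun i => ?_
    · have hex : ∀ i, ∃ z : σ → R, f ∘ z = b i ∧ (i ∈ s → z ∈ S) := fun i => by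
        by_cases hi : i ∈ s
        · obtain ⟨z, hz, hzb⟩ : b i ∈ (fun z => f ∘ z) '' S := by simpa [hi] using hb i
          exact ⟨z, hzb, fun _ => hz⟩
        · obtain ⟨j, hj⟩ : ∃ j : σ, f ∘ Pi.single j (1 : R) = b i := by simpa [hi] using hb i
          exact ⟨_, hj, fun h => absurd h hi⟩
      choose z hz hzS using hex
      have : b = (Matrix.of z).map f := by
        ext i j
        exact (congrFun (hz i) j).symm
      rw [this, ← RingHom.mapMatrix_apply, ← RingHom.map_det]
      exact Ideal.mem_map_of_mem f (det_mem_rowIdeal _ s hs hzS)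
    · by_cases hi : i ∈ s
      · simpa [hi] using Submodule.subset_span (R := R') (ha i hi)
      · rw [if_neg hi, pi_eq_sum_univ' (a i)]
        refine Submodule.sum_mem _ fun j _ => Submodule.smul_mem _ _ (Submodule.subset_span ⟨j, ?_⟩)
        funext l
        rcases eq_or_ne l j with rfl | hl <;> simp [*]
  · rw [rowIdeal, Ideal.map_span, Ideal.span_le]
    rintro _ ⟨_, ⟨a, s, hs, ha, rfl⟩, rfl⟩
    rw [RingHom.map_det]
    exact det_mem_rowIdeal _ s hs fun i hi => ⟨a i, ha i hi, rfl⟩

theorem det_eq_zero_of_card_lt (A : Matrix σ σ R) (L : Finset σ) (C : Finset σ)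
    (h0 : ∀ i ∈ L, ∀ j, j ∉ C → A i j = 0) (hcard : C.card < L.card) : A.det = 0 := by
  rw [Matrix.det_apply]
  refine Finset.sum_eq_zero fun π _ => ?_
  obtain ⟨i, hi, hiC⟩ : ∃ i ∈ L, π.symm i ∉ C := by
    by_contra! hall
    exact absurd (Finset.card_le_card_of_injOn π.symm (fun i hi => hall i hi) π.symm.injective.injOn)
      (not_le.2 hcard)
  rw [Finset.prod_eq_zero (Finset.mem_univ (π.symm i)) (by rw [Equiv.apply_symm_apply]; exact h0 i hi _ hiC),
    smul_zero]

/-- The rows of `σ ⊕ τ` coming from `S` or from `T`. -/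
def sumRows (S : Set (σ → R)) (T : Set (τ → R)) : Set (σ ⊕ τ → R) :=
  (fun z => Sum.elim z 0) '' S ∪ (fun w => Sum.elim 0 w) '' T

theorem det_mem_of_block (S : Set (σ → R)) (T : Set (τ → R)) (k : ℕ) (I : Ideal R)
    (hI : ∀ p q, p + q ≤ k → rowIdeal S p * rowIdeal T q ≤ I) (A : Matrix (σ ⊕ τ) (σ ⊕ τ) R)
    (s : Finset (σ ⊕ τ)) (hs : Fintype.card (σ ⊕ τ) - k ≤ s.card) (hA : ∀ i ∈ s, A i ∈ sumRows S T)
    (hA' : ∀ i, A i ∈ sumRows (Set.univ : Set (σ → R)) (Set.univ : Set (τ → R))) : A.det ∈ I := by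
  classical
  -- the rows supported on the left
  let inL : σ ⊕ τ → Prop := fun i => (i ∈ s ∧ ∃ z ∈ S, Sum.elim z 0 = A i) ∨ (i ∉ s ∧ ∃ z : σ → R, Sum.elim z 0 = A i)
  let L : Finset (σ ⊕ τ) := Finset.univ.filter inL
  have hL0 : ∀ i ∈ L, ∀ t, A i (Sum.inr t) = 0 := fun i hi t => by
    rcases (Finset.mem_filter.1 hi).2 with ⟨-, z, -, hz⟩ | ⟨-, z, hz⟩ <;> rw [← hz] <;> rfl
  have hR : ∀ i ∉ L, ∃ w : τ → R, Sum.elim (0 : σ → R) w = A i ∧ (i ∈ s → w ∈ T) := fun i hi => by
    have hi' : ¬ inL i := fun h => hi (Finset.mem_filter.2 ⟨Finset.mem_univ i, h⟩)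
    by_cases his : i ∈ s
    · rcases hA i his with ⟨z, hz, hzA⟩ | ⟨w, hw, hwA⟩
      · exact absurd (Or.inl ⟨his, z, hz, hzA⟩) hi'
      · exact ⟨w, hwA, fun _ => hw⟩
    · rcases hA' i with ⟨z, -, hzA⟩ | ⟨w, -, hwA⟩
      · exact absurd (Or.inr ⟨his, z, hzA⟩) hi'
      · exact ⟨w, hwA, fun h => absurd h his⟩
  have hR0 : ∀ i ∉ L, ∀ j, A i (Sum.inl j) = 0 := fun i hi j => by
    obtain ⟨w, hw, -⟩ := hR i hi
    rw [← hw]; rfl
  let cl : Finset (σ ⊕ τ) := Finset.univ.map Function.Embedding.inl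
  let cr : Finset (σ ⊕ τ) := Finset.univ.map Function.Embedding.inr
  by_cases hlt : cl.card < L.card
  · have h0 : ∀ i ∈ L, ∀ j, j ∉ cl → A i j = 0 := fun i hi j hj => by
      cases j with
      | inl j => simp [cl] at hj
      | inr t => exact hL0 i hi t
    rw [det_eq_zero_of_card_lt A L cl h0 hlt]
    exact zero_mem I
  by_cases hgt : L.card < cl.card
  · have h0 : ∀ i ∈ Lᶜ, ∀ j, j ∉ cr → A i j = 0 := fun i hi j hj => by
      cases j with
      | inl j => exact hR0 i (Finset.mem_compl.1 hi) j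
      | inr t => simp [cr] at hj
    have hc : cr.card < Lᶜ.card := by
      have h1 := Finset.card_add_card_compl L
      simp only [cl, cr, Finset.card_map, Finset.card_univ, Fintype.card_sum] at h1 hgt ⊢
      omega
    rw [det_eq_zero_of_card_lt A Lᶜ cr h0 hc]
    exact zero_mem I
  have hcard : L.card = Fintype.card σ := by
    simp only [cl, Finset.card_map, Finset.card_univ] at hlt hgt; omega
  have hcard' : Lᶜ.card = Fintype.card τ := by
    rw [Finset.card_compl, Fintype.card_sum, hcard]; omega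
  let el : σ ≃ {i // i ∈ L} := Fintype.equivOfCardEq (by simp [hcard])
  let er : τ ≃ {i // ¬ i ∈ L} := Fintype.equivOfCardEq (by
    rw [Fintype.card_subtype_compl, Fintype.card_coe, ← hcard', Finset.card_compl])
  let π : Equiv.Perm (σ ⊕ τ) := (Equiv.sumCongr el er).trans (Equiv.sumCompl (· ∈ L))
  let B : Matrix σ σ R := Matrix.of fun i j => A (el i).1 (Sum.inl j)
  let D : Matrix τ τ R := Matrix.of fun i j => A (er i).1 (Sum.inr j)
  have hπ : A.submatrix π id = Matrix.fromBlocks B 0 0 D := by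
    ext i j
    cases i <;> cases j <;> simp [π, B, D, hL0 _ (el _).2, hR0 _ (er _).2]
  have hdet : (Equiv.Perm.sign π : R) * A.det = B.det * D.det := by
    rw [← Matrix.det_permute, hπ, Matrix.det_fromBlocks_zero₂₁]
  have hkey : B.det * D.det ∈ I := by
    let sl : Finset σ := Finset.univ.filter fun i => (el i).1 ∈ s
    let sr : Finset τ := Finset.univ.filter fun i => (er i).1 ∈ s
    have hsum : s.card = sl.card + sr.card := by
      rw [← Finset.card_inter_add_card_sdiff s L]
      congr 1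
      · refine (Finset.card_bij (fun i _ => (el i).1) (fun i hi => ?_) (fun i _ j _ h => el.injective (Subtype.ext h))
          fun b hb => ?_).symm
        · exact Finset.mem_inter.2 ⟨(Finset.mem_filter.1 hi).2, (el i).2⟩
        · obtain ⟨hbs, hbL⟩ := Finset.mem_inter.1 hb
          exact ⟨el.symm ⟨b, hbL⟩, Finset.mem_filter.2 ⟨Finset.mem_univ _, by simpa using hbs⟩, by simp⟩
      · refine (Finset.card_bij (fun i _ => (er i).1) (fun i hi => ?_) (fun i _ j _ h => er.injective (Subtype.ext h))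
          fun b hb => ?_).symm
        · exact Finset.mem_sdiff.2 ⟨(Finset.mem_filter.1 hi).2, (er i).2⟩
        · obtain ⟨hbs, hbL⟩ := Finset.mem_sdiff.1 hb
          exact ⟨er.symm ⟨b, hbL⟩, Finset.mem_filter.2 ⟨Finset.mem_univ _, by simpa using hbs⟩, by simp⟩
    have h1 : sl.card ≤ Fintype.card σ := Finset.card_le_univ _
    have h2 : sr.card ≤ Fintype.card τ := Finset.card_le_univ _
    refine hI (Fintype.card σ - sl.card) (Fintype.card τ - sr.card) ?_
      (Ideal.mul_mem_mul (det_mem_rowIdeal B sl (by omega) fun i hi => ?_)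
        (det_mem_rowIdeal D sr (by omega) fun i hi => ?_))
    · rw [Fintype.card_sum] at hs
      omega
    · rcases (Finset.mem_filter.1 (el i).2).2 with ⟨-, z, hz, hzA⟩ | ⟨hns, -⟩
      · have : B i = z := by
          funext j
          show A (el i).1 (Sum.inl j) = z j
          rw [← hzA]; rfl
        rw [this]; exact hz
      · exact absurd (Finset.mem_filter.1 hi).2 hns
    · obtain ⟨w, hw, hwT⟩ := hR _ (er i).2
      have : D i = w := by
        funext j
        show A (er i).1 (Sum.inr j) = w j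
        rw [← hw]; rfl
      rw [this]; exact hwT (Finset.mem_filter.1 hi).2
  rw [← hdet] at hkey
  have h3 := I.mul_mem_left (Equiv.Perm.sign π : R) hkey
  rcases Int.units_eq_one_or (Equiv.Perm.sign π) with h | h <;> simpa [h] using h3

theorem rowIdeal_sumRows_le (S : Set (σ → R)) (T : Set (τ → R)) (k : ℕ) (I : Ideal R)
    (hI : ∀ p q, p + q ≤ k → rowIdeal S p * rowIdeal T q ≤ I) : rowIdeal (sumRows S T) k ≤ I := by
  classical
  refine Ideal.span_le.2 ?_
  rintro _ ⟨A, s, hs, hA, rfl⟩
  refine det_mem_of_span (fun i => if i ∈ s then sumRows S T else Set.range fun j => Pi.single j (1 : R)) I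
    (fun b hb => ?_) A fun i => ?_
  · refine det_mem_of_block S T k I hI b s hs (fun i hi => by simpa [hi] using hb i) fun i => ?_
    by_cases hi : i ∈ s
    · exact Set.union_subset_union (Set.image_mono (Set.subset_univ S)) (Set.image_mono (Set.subset_univ T))
        (show b i ∈ sumRows S T from (by have h := hb i; rwa [if_pos hi] at h))
    · obtain ⟨j, hj⟩ : ∃ j, Pi.single j (1 : R) = b i := by simpa [hi] using hb i
      rw [← hj]
      cases j with
      | inl j => exact Or.inl ⟨Pi.single j 1, trivial, by funext l; cases l <;> simp [Pi.single_apply]⟩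
      | inr j => exact Or.inr ⟨Pi.single j 1, trivial, by funext l; cases l <;> simp [Pi.single_apply]⟩
  · by_cases hi : i ∈ s
    · simpa [hi] using Submodule.subset_span (R := R) (hA i hi)
    · rw [if_neg hi, pi_eq_sum_univ' (A i)]
      exact Submodule.sum_mem _ fun j _ => Submodule.smul_mem _ _ (Submodule.subset_span ⟨j, rfl⟩)

theorem le_rowIdeal_sumRows (S : Set (σ → R)) (T : Set (τ → R)) {p q k : ℕ} (h : p + q ≤ k) :
    rowIdeal S p * rowIdeal T q ≤ rowIdeal (sumRows S T) k := by
  classical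
  rw [rowIdeal, rowIdeal, Ideal.span_mul_span', Ideal.span_le]
  rintro _ ⟨_, ⟨a, s, hs, ha, rfl⟩, _, ⟨b, t, ht, hb, rfl⟩, rfl⟩
  simp only [SetLike.mem_coe]
  rw [← Matrix.det_fromBlocks_zero₂₁ a 0 b]
  refine det_mem_rowIdeal _ (s.disjSum t) ?_ fun i hi => ?_
  · rw [Finset.card_disjSum, Fintype.card_sum]; omega
  · rcases i with i | i
    · exact Or.inl ⟨a i, ha i (Finset.inl_mem_disjSum.1 hi), by funext l; cases l <;> simp⟩
    · exact Or.inr ⟨b i, hb i (Finset.inr_mem_disjSum.1 hi), by funext l; cases l <;> simp⟩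

end Groth.Agent.Fitting
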