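import Groth.Prelude.Def_Fitting
import Groth.Agent.Fitting.Det
import Mathlib

/-!
Independence of Fitting ideals of the generating tuple, functoriality, base change and products.
-/

set_option autoImplicit false

namespace Groth.Agent.Fitting

universe u v w w'

open TensorProduct

variable {R : Type u} [CommRing R]

section

variable {M : Type v} [AddCommGroup M] [Module R M] {σ : Type w} [Fintype σ] {τ : Type w'} [Fintype τ]

/-- The relations of a tuple. -/
def relOf (x : σ → M) : Set (σ → R) := {z | ∑ j, z j • x j = 0}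

variable [DecidableEq σ] [DecidableEq τ]

/-- The Fitting ideal computed with a tuple. -/
def fit (x : σ → M) (k : ℕ) : Ideal R := rowIdeal (relOf (R := R) x) k

theorem fit_comp_equiv (x : σ → M) (e : τ ≃ σ) (k : ℕ) : fit (R := R) (x ∘ e) k = fit x k := by
  refine le_antisymm (rowIdeal_reindex_le e (fun z hz => ?_) k) (rowIdeal_reindex_le e.symm (fun z hz => ?_) k)
  · show ∑ j, z (e.symm j) • x j = 0
    rw [← e.sum_comp]
    simpa [relOf] using hz
  · show ∑ j, z (e.symm.symm j) • x (e j) = 0
    rw [Equiv.symm_symm, e.sum_comp (fun j => z j • x j)]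
    exact hz

theorem fit_sumElim (x : σ → M) (y : τ → M) (hy : ∀ t, y t ∈ Submodule.span R (Set.range x)) (k : ℕ) :
    fit (R := R) (Sum.elim x y) k = fit x k := by
  choose c hc using fun t => Submodule.mem_span_range_iff_exists_fun R |>.1 (hy t)
  let C : Matrix τ σ R := Matrix.of c
  let E : Matrix (σ ⊕ τ) (σ ⊕ τ) R := Matrix.fromBlocks 1 0 C 1
  refine le_antisymm (Ideal.span_le.2 ?_) (Ideal.span_le.2 ?_)
  · rintro _ ⟨A, s, hs, hA, rfl⟩
    have hdet : (A * E).det = A.det := by simp [E, Matrix.det_mul, Matrix.det_fromBlocks_zero₁₂]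
    simp only [SetLike.mem_coe]
    rw [← hdet]
    refine rowIdeal_sumRows_le (relOf x) (Set.univ : Set (τ → R)) k _
      (fun p q hpq => Ideal.mul_le_left.trans (rowIdeal_mono_k _ (le_of_add_le_left hpq))) ?_
    refine rowIdeal_le_of_subset_span (T := Submodule.span R (sumRows (relOf x) (Set.univ : Set (τ → R))))
      le_rfl k (det_mem_rowIdeal _ s hs fun i hi => ?_)
    have h1 : (A * E) i = Sum.elim (fun j => A i (Sum.inl j) + ∑ t, A i (Sum.inr t) * c t j) 0
        + Sum.elim (0 : σ → R) (fun t => A i (Sum.inr t)) := by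
      funext l
      cases l <;> simp [Matrix.mul_apply, E, C, Matrix.one_apply, Fintype.sum_sum_type]
    rw [h1]
    refine Submodule.add_mem _ (Submodule.subset_span (Or.inl ⟨_, ?_, rfl⟩))
      (Submodule.subset_span (Or.inr ⟨_, trivial, rfl⟩))
    have h2 := hA i hi
    simp only [relOf, Set.mem_ofPred_eq, Fintype.sum_sum_type, Sum.elim_inl, Sum.elim_inr] at h2 ⊢
    rw [← h2]
    simp only [add_smul, Finset.sum_add_distrib, Finset.sum_smul, mul_smul]
    congr 1
    rw [Finset.sum_comm]
    simp only [← Finset.smul_sum, hc]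
  · rintro _ ⟨a, s, hs, ha, rfl⟩
    simp only [SetLike.mem_coe]
    suffices h : (Matrix.fromBlocks a 0 C (-1 : Matrix τ τ R)).det ∈ fit (R := R) (Sum.elim x y) k by
      rw [Matrix.det_fromBlocks_zero₁₂, Matrix.det_neg, Matrix.det_one, mul_one] at h
      rcases neg_one_pow_eq_or R (Fintype.card τ) with h1 | h1 <;> simpa [h1] using h
    refine det_mem_rowIdeal _ (s.disjSum (Finset.univ : Finset τ)) ?_ fun i hi => ?_
    · rw [Finset.card_disjSum, Fintype.card_sum, Finset.card_univ]; omega
    · show ∑ j, _ • Sum.elim x y j = 0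
      rcases i with i | i
      · simpa [Fintype.sum_sum_type, relOf] using ha i (Finset.inl_mem_disjSum.1 hi)
      · simp [Fintype.sum_sum_type, C, hc, Matrix.one_apply, ite_smul]

theorem fit_eq_fit (x : σ → M) (y : τ → M) (hx : Submodule.span R (Set.range x) = ⊤)
    (hy : Submodule.span R (Set.range y) = ⊤) (k : ℕ) : fit (R := R) x k = fit y k := by
  rw [← fit_sumElim x y (fun t => hx ▸ Submodule.mem_top) k, ← fit_sumElim y x (fun t => hy ▸ Submodule.mem_top) k,
    ← fit_comp_equiv (Sum.elim y x) (Equiv.sumComm σ τ) k]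
  congr 1
  funext i; cases i <;> rfl

theorem fit_eq_top (x : σ → M) {k : ℕ} (h : Fintype.card σ ≤ k) : fit (R := R) x k = ⊤ := rowIdeal_eq_top _ h

theorem fit_mono_k (x : σ → M) {k l : ℕ} (h : k ≤ l) : fit (R := R) x k ≤ fit x l := rowIdeal_mono_k _ h

theorem fit_map_le {N : Type*} [AddCommGroup N] [Module R N] (f : M →ₗ[R] N) (x : σ → M) (k : ℕ) :
    fit (R := R) x k ≤ fit (f ∘ x) k :=
  rowIdeal_mono (fun z (hz : ∑ j, z j • x j = 0) => by
    show ∑ j, z j • f (x j) = 0
    simpa [map_sum] using congrArg f hz) k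

theorem ideal_eq_fit (x : σ → M) (hx : Submodule.span R (Set.range x) = ⊤) (k : ℕ) :
    Fitt.ideal R M k = fit x k := by
  classical
  refine le_antisymm (Ideal.span_le.2 ?_) ?_
  · rintro _ ⟨n, y, a, hy, ha, rfl⟩
    simp only [SetLike.mem_coe]
    rw [fit_eq_fit x y hx hy]
    refine det_mem_rowIdeal a (Finset.univ.filter fun i : Fin n => (i : ℕ) < n - k) ?_ fun i hi =>
      ha i (Finset.mem_filter.1 hi).2
    rw [Fintype.card_fin, ← Fintype.card_subtype,
      Fintype.card_congr (Fin.castLEquiv (Nat.sub_le n k)).symm, Fintype.card_fin]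
  · let e := Fintype.equivFin σ
    let n := Fintype.card σ
    have hy : Submodule.span R (Set.range (x ∘ e.symm)) = ⊤ := by
      rwa [Set.range_comp, e.symm.range_eq_univ, Set.image_univ]
    rw [fit_eq_fit x (x ∘ e.symm) hx hy]
    refine Ideal.span_le.2 ?_
    rintro _ ⟨a, s, hs, ha, rfl⟩
    obtain ⟨s', hs', hs'card⟩ := Finset.exists_subset_card_eq hs
    let e0 : {i : Fin n // (i : ℕ) < n - k} ≃ {i : Fin n // i ∈ s'} :=
      Fintype.equivOfCardEq (by
        rw [Fintype.card_coe, hs'card, Fintype.card_fin, Fintype.card_congr (Fin.castLEquiv (Nat.sub_le n k)).symm,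
          Fintype.card_fin])
    let π := e0.extendSubtype
    have h : (a.submatrix π id).det ∈ Fitt.ideal R M k := Ideal.subset_span
      ⟨n, x ∘ e.symm, a.submatrix π id, hy, fun i hi => ha (π i) (hs' (e0.extendSubtype_mem i hi)), rfl⟩
    rw [Matrix.det_permute] at h
    rcases Int.units_eq_one_or (Equiv.Perm.sign π) with h1 | h1 <;> simpa [h1] using h

end

section

variable {M : Type v} [AddCommGroup M] [Module R M] {M' : Type w} [AddCommGroup M'] [Module R M']

theorem ideal_mono_k [Module.Finite R M] {k l : ℕ} (h : k ≤ l) : Fitt.ideal R M k ≤ Fitt.ideal R M l := by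
  obtain ⟨n, x, hx⟩ := Module.Finite.exists_fin (R := R) (M := M)
  rw [ideal_eq_fit x hx, ideal_eq_fit x hx]
  exact fit_mono_k x h

theorem ideal_le_of_surjective [Module.Finite R M] (f : M →ₗ[R] M') (hf : Function.Surjective f) (k : ℕ) :
    Fitt.ideal R M k ≤ Fitt.ideal R M' k := by
  obtain ⟨n, x, hx⟩ := Module.Finite.exists_fin (R := R) (M := M)
  have hfx : Submodule.span R (Set.range (f ∘ x)) = ⊤ := by
    rw [Set.range_comp, Submodule.span_image, hx, Submodule.map_top, LinearMap.range_eq_top.2 hf]
  rw [ideal_eq_fit x hx, ideal_eq_fit (f ∘ x) hfx]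
  exact fit_map_le f x k

theorem ideal_congr [Module.Finite R M] (e : M ≃ₗ[R] M') (k : ℕ) : Fitt.ideal R M k = Fitt.ideal R M' k :=
  haveI := Module.Finite.equiv e
  le_antisymm (ideal_le_of_surjective e.toLinearMap e.surjective k)
    (ideal_le_of_surjective e.symm.toLinearMap e.symm.surjective k)

/-- Fitting ideals commute with base change. -/
theorem ideal_baseChange (R' : Type*) [CommRing R'] [Algebra R R'] [Module.Finite R M] (k : ℕ) :
    Fitt.ideal R' (R' ⊗[R] M) k = (Fitt.ideal R M k).map (algebraMap R R') := by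
  classical
  obtain ⟨n, x, hx⟩ := Module.Finite.exists_fin (R := R) (M := M)
  let x' : Fin n → R' ⊗[R] M := fun j => (1 : R') ⊗ₜ[R] x j
  let π : (Fin n → R) →ₗ[R] M := Fintype.linearCombination R x
  have hsurj : Function.Surjective π := by
    rw [← LinearMap.range_eq_top, Fintype.range_linearCombination, hx]
  have hex : Function.Exact (LinearMap.ker π).subtype π := LinearMap.exact_subtype_ker_map π
  have hkey : ∀ q : R' ⊗[R] (Fin n → R),
      π.lTensor R' q = ∑ j, TensorProduct.piScalarRight R R' R' (Fin n) q j • x' j := fun q => by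
    induction q using TensorProduct.induction_on with
    | zero => simp
    | tmul a v =>
      simp only [LinearMap.lTensor_tmul, TensorProduct.piScalarRight_apply, TensorProduct.piScalarRightHom_tmul,
        x', π, Fintype.linearCombination_apply, TensorProduct.tmul_sum]
      refine Finset.sum_congr rfl fun j _ => ?_
      rw [TensorProduct.smul_tmul', smul_eq_mul, mul_one, TensorProduct.tmul_smul, TensorProduct.smul_tmul']
    | add a b ha hb => simp [ha, hb, add_smul, Finset.sum_add_distrib]
  have hx' : Submodule.span R' (Set.range x') = ⊤ := by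
    rw [eq_top_iff]
    rintro q -
    obtain ⟨p, rfl⟩ := LinearMap.lTensor_surjective R' hsurj q
    rw [hkey]
    exact Submodule.sum_mem _ fun j _ => Submodule.smul_mem _ _ (Submodule.subset_span ⟨j, rfl⟩)
  rw [ideal_eq_fit x' hx', ideal_eq_fit x hx, fit, fit, ← rowIdeal_map]
  refine le_antisymm (rowIdeal_le_of_subset_span (fun z hz => ?_) k) (rowIdeal_mono ?_ k)
  · have h1 : π.lTensor R' ((TensorProduct.piScalarRight R R' R' (Fin n)).symm z) = 0 := by
      rw [hkey, LinearEquiv.apply_symm_apply]; exact hz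
    obtain ⟨p, hp⟩ := (lTensor_exact R' hex hsurj _).1 h1
    have h2 : z = TensorProduct.piScalarRight R R' R' (Fin n) ((LinearMap.ker π).subtype.lTensor R' p) := by
      rw [hp, LinearEquiv.apply_symm_apply]
    rw [h2]
    clear hp h2
    induction p using TensorProduct.induction_on with
    | zero => simp
    | tmul a v =>
      rw [LinearMap.lTensor_tmul, TensorProduct.piScalarRight_apply, TensorProduct.piScalarRightHom_tmul]
      have : (fun j => (LinearMap.ker π).subtype v j • a) = a • (algebraMap R R' ∘ (v : Fin n → R)) := by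
        funext j; simp [Algebra.smul_def, mul_comm]
      rw [this]
      exact Submodule.smul_mem _ _ (Submodule.subset_span ⟨_, v.2, rfl⟩)
    | add a b ha hb => rw [map_add, map_add]; exact Submodule.add_mem _ ha hb
  · rintro _ ⟨z, hz, rfl⟩
    show ∑ j, algebraMap R R' (z j) • x' j = 0
    have := congrArg (fun m => (1 : R') ⊗ₜ[R] m) (show ∑ j, z j • x j = 0 from hz)
    simpa [TensorProduct.tmul_sum, TensorProduct.tmul_smul, x'] using this

/-- Fitting ideals of a product. -/
theorem ideal_prod [Module.Finite R M] [Module.Finite R M'] (l : ℕ) :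
    Fitt.ideal R (M × M') l = ∑ k ∈ Finset.range (l + 1), Fitt.ideal R M k * Fitt.ideal R M' (l - k) := by
  classical
  obtain ⟨n, x, hx⟩ := Module.Finite.exists_fin (R := R) (M := M)
  obtain ⟨m, y, hy⟩ := Module.Finite.exists_fin (R := R) (M := M')
  let X : Fin n ⊕ Fin m → M × M' := Sum.elim (fun i => (x i, 0)) (fun j => (0, y j))
  have hX : Submodule.span R (Set.range X) = ⊤ := by
    rw [Set.Sum.elim_range, Submodule.span_union, Set.range_comp' (fun a => ((a, 0) : M × M')) x,
      Set.range_comp' (fun b => ((0, b) : M × M')) y]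
    show Submodule.span R (LinearMap.inl R M M' '' _) ⊔ Submodule.span R (LinearMap.inr R M M' '' _) = ⊤
    rw [Submodule.span_image, Submodule.span_image, hx, hy, Submodule.map_top, Submodule.map_top,
      LinearMap.sup_range_inl_inr]
  have hrel : relOf (R := R) X ⊆ (Submodule.span R (sumRows (relOf (R := R) x) (relOf (R := R) y)) : Set (Fin n ⊕ Fin m → R)) := fun z hz => by
    have h1 := congrArg Prod.fst (show ∑ j, z j • X j = 0 from hz)
    have h2 := congrArg Prod.snd (show ∑ j, z j • X j = 0 from hz)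
    simp [Fintype.sum_sum_type, X, Prod.fst_sum, Prod.snd_sum] at h1 h2
    have h3 : z = Sum.elim (z ∘ Sum.inl) 0 + Sum.elim (0 : Fin n → R) (z ∘ Sum.inr) := by
      funext j; cases j <;> simp
    rw [h3]
    exact Submodule.add_mem _ (Submodule.subset_span (Or.inl ⟨_, h1, rfl⟩))
      (Submodule.subset_span (Or.inr ⟨_, h2, rfl⟩))
  rw [ideal_eq_fit X hX, Finset.sum_congr rfl fun k _ => by
    rw [ideal_eq_fit (M := M) x hx, ideal_eq_fit (M := M') y hy]]
  refine le_antisymm ((rowIdeal_le_of_subset_span hrel l).trans (rowIdeal_sumRows_le _ _ _ _ fun p q hpq => ?_)) ?_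
  · have hp : p ∈ Finset.range (l + 1) := Finset.mem_range.2 (by omega)
    exact (Ideal.mul_mono le_rfl (fit_mono_k y (show q ≤ l - p by omega))).trans
      (Finset.single_le_sum (f := fun k => fit (R := R) x k * fit y (l - k)) (fun _ _ => bot_le) hp)
  · rw [Ideal.sum_eq_sup, Finset.sup_le_iff]
    intro k hk
    have hk' := Finset.mem_range.1 hk
    refine (le_rowIdeal_sumRows (relOf x) (relOf y) (k := l) (by omega)).trans (rowIdeal_mono ?_ l)
    rintro _ (⟨z, hz, rfl⟩ | ⟨z, hz, rfl⟩) <;>
      simpa [relOf, Fintype.sum_sum_type, X, Prod.ext_iff, Prod.fst_sum, Prod.snd_sum] using hz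

end

end Groth.Agent.Fitting
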